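import Groth.Agent.TorOperator.Higher
import Mathlib.RingTheory.Ideal.Operations
import Mathlib.RingTheory.Ideal.Maps
import Mathlib.RingTheory.PowerSeries.Basic

/-!
The degree `-2` operator attached to a square zero thickening by one element, and the nilpotence it
forces when high degree homology modulo the annihilator vanishes.
-/

namespace Groth.Agent.TorOperator

universe u

variable {P P' : Type u} [CommRing P] [CommRing P'] (p : P' →+* P) {ι : Type u}

/-- `E'` lifts `E` along `p`. -/
def Over (E' : Module.End P' (ι →₀ P')) (E : Module.End P (ι →₀ P)) : Prop :=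
  ∀ v, Finsupp.mapRange p p.map_zero (E' v) = E (Finsupp.mapRange p p.map_zero v)

section Lift

variable {p}

theorem mapRange_smul_end (c : P') (v : ι →₀ P') :
    Finsupp.mapRange p p.map_zero (c • v) = p c • Finsupp.mapRange p p.map_zero v := by
  ext i; simp

theorem mapRange_add' (v w : ι →₀ P') : Finsupp.mapRange p p.map_zero (v + w) =
    Finsupp.mapRange p p.map_zero v + Finsupp.mapRange p p.map_zero w :=
  Finsupp.mapRange_add (map_add p) v w

theorem mapRange_single' (x : ι) (a : P') :
    Finsupp.mapRange p p.map_zero (Finsupp.single x a) = Finsupp.single x (p a) :=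
  Finsupp.mapRange_single

theorem Over.zero : Over p (0 : Module.End P' (ι →₀ P')) 0 := fun v => by simp

theorem Over.add {E' F' : Module.End P' (ι →₀ P')} {E F : Module.End P (ι →₀ P)}
    (h : Over p E' E) (h' : Over p F' F) : Over p (E' + F') (E + F) := fun v => by
  rw [LinearMap.add_apply, mapRange_add', h v, h' v, LinearMap.add_apply]

theorem Over.mul {E' F' : Module.End P' (ι →₀ P')} {E F : Module.End P (ι →₀ P)}
    (h : Over p E' E) (h' : Over p F' F) : Over p (E' * F') (E * F) := fun v => by
  rw [Module.End.mul_apply, h, h', Module.End.mul_apply]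

theorem Over.smul {E' : Module.End P' (ι →₀ P')} {E : Module.End P (ι →₀ P)}
    (h : Over p E' E) (c : P') : Over p (c • E') (p c • E) := fun v => by
  rw [LinearMap.smul_apply, mapRange_smul_end, h v, LinearMap.smul_apply]

theorem Over.sum {α : Type*} (s : Finset α) (E' : α → Module.End P' (ι →₀ P'))
    (E : α → Module.End P (ι →₀ P)) (h : ∀ a ∈ s, Over p (E' a) (E a)) :
    Over p (∑ a ∈ s, E' a) (∑ a ∈ s, E a) := by
  classical
  induction s using Finset.induction_on with
  | empty => simpa using Over.zero
  | insert a s ha ih =>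
    rw [Finset.sum_insert ha, Finset.sum_insert ha]
    exact (h a (Finset.mem_insert_self a s)).add (ih fun b hb => h b (Finset.mem_insert_of_mem hb))

theorem Over.algebraMap {c : P'} : Over p (algebraMap P' (Module.End P' (ι →₀ P')) c)
    (algebraMap P (Module.End P (ι →₀ P)) (p c)) := fun v => by
  rw [Module.algebraMap_end_apply, Module.algebraMap_end_apply, mapRange_smul_end]

theorem exists_over (hp : Function.Surjective p) (E : Module.End P (ι →₀ P)) :
    ∃ E' : Module.End P' (ι →₀ P'), Over p E' E := by
  choose lift hlift using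
    Finsupp.mapRange_surjective (α := ι) p p.map_zero hp
  refine ⟨Finsupp.linearCombination P' fun x => lift (E (Finsupp.single x 1)), fun v => ?_⟩
  induction v using Finsupp.induction_linear with
  | zero => simp
  | add a b ha hb => rw [map_add, mapRange_add', ha, hb, mapRange_add', map_add]
  | single x a =>
    rw [Finsupp.linearCombination_single, mapRange_smul_end, hlift, mapRange_single', ← map_smul,
      Finsupp.smul_single', mul_one]

theorem exists_dvd {φ : P'} (hker : RingHom.ker p = Ideal.span {φ}) (v : ι →₀ P')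
    (hv : Finsupp.mapRange p p.map_zero v = 0) : ∃ w, v = φ • w := by
  classical
  have h : ∀ i, ∃ a, a * φ = v i := fun i => Ideal.mem_span_singleton'.mp (by
    rw [← hker, RingHom.mem_ker]
    exact DFunLike.congr_fun hv i)
  choose a ha using h
  refine ⟨Finsupp.onFinset v.support (fun i => if i ∈ v.support then a i else 0) (fun i hi => by
    by_contra hn; exact hi (if_neg hn)), ?_⟩
  ext i
  rw [Finsupp.smul_apply, Finsupp.onFinset_apply, smul_eq_mul]
  split_ifs with hi
  · rw [mul_comm, ha]
  · rw [mul_zero]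
    exact Finsupp.notMem_support_iff.mp hi

theorem Over.exists_smul {φ : P'} (hker : RingHom.ker p = Ideal.span {φ})
    {E' F' : Module.End P' (ι →₀ P')} {E : Module.End P (ι →₀ P)}
    (h : Over p E' E) (h' : Over p F' E) : ∃ e : Module.End P' (ι →₀ P'), E' = F' + φ • e := by
  have hx : ∀ x, ∃ w, E' (Finsupp.single x 1) - F' (Finsupp.single x 1) = φ • w := fun x =>
    exists_dvd hker _ (by rw [Finsupp.mapRange_sub (map_sub p), h, h', sub_self])
  choose w hw using hx
  refine ⟨Finsupp.linearCombination P' w, Finsupp.lhom_ext' fun x => LinearMap.ext_ring ?_⟩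
  simp only [LinearMap.comp_apply, Finsupp.lsingle_apply, LinearMap.add_apply, LinearMap.smul_apply,
    Finsupp.linearCombination_single, one_smul]
  rw [← hw]
  exact (add_sub_cancel _ _).symm

end Lift

section Series

variable {A : Type*} [Semiring A]

theorem coeff_mk_mul (c : ℕ → A) (W : PowerSeries A) (k : ℕ) :
    PowerSeries.coeff k (PowerSeries.mk c * W) =
      ∑ q ∈ Finset.antidiagonal k, c q.1 * PowerSeries.coeff q.2 W := by
  rw [PowerSeries.coeff_mul]
  simp only [PowerSeries.coeff_mk]

end Series

/-- Rank one endomorphism sending `o` to `v` and killing the other basis vectors. -/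
noncomputable def atO {Q : Type u} [CommRing Q] (o : ι) (v : ι →₀ Q) : Module.End Q (ι →₀ Q) :=
  (LinearMap.toSpanSingleton Q (ι →₀ Q) v).comp (Finsupp.lapply o)

theorem atO_single {Q : Type u} [CommRing Q] (o : ι) (v : ι →₀ Q) :
    atO o v (Finsupp.single o 1) = v := by
  simp [atO, LinearMap.toSpanSingleton_apply]

theorem atO_apply {Q : Type u} [CommRing Q] (o : ι) (v w : ι →₀ Q) : atO o v w = w o • v := rfl

variable {p}

theorem Over.atO (o : ι) {v' : ι →₀ P'} {v : ι →₀ P}
    (h : Finsupp.mapRange p p.map_zero v' = v) : Over p (atO o v') (atO o v) := fun w => by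
  rw [atO_apply, atO_apply, mapRange_smul_end, h, Finsupp.mapRange_apply]

section Main

variable {J 𝔞 : Ideal P} (F : FreeRes P J) {m : ℕ}

/-- A finite stage of the lift of a twisting cocycle, with `w` over `1`. -/
theorem exists_cycle (f r : Fin m → P) (hf : ∀ j, f j ∈ J) (hrel : ∑ j, r j * f j = 0) (N : ℕ) :
    ∃ (σ : MvPowerSeries (Fin m) (Module.End P F.T)) (w : ℕ → F.T),
      IsSystem F f N σ ∧ w 0 = Finsupp.single F.o 1 ∧ ∀ k ≤ N, w k ∈ F.Gr (2 * (k : ℤ)) ∧
        ∑ q ∈ Finset.antidiagonal k,
          subst r (fun α => MvPowerSeries.coeff α σ) q.1 (w q.2) = 0 := by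
  classical
  obtain ⟨σ, hσ⟩ := exists_system F f hf N
  obtain ⟨h0, hdeg, heq⟩ := id hσ
  set c : ℕ → Module.End P F.T := subst r fun α => MvPowerSeries.coeff α σ with hc
  have hc0 : c 0 = F.d := by rw [hc, subst_zero, h0]
  have hcdeg : ∀ a : ℕ, F.IsHom (2 * (a : ℤ) - 1) (c a) := fun a => by
    rw [hc, subst]
    refine F.isHom_sum _ _ fun α hα => ?_
    rw [mem_antidiag_univ] at hα
    have := (hdeg α).smul (∏ j, r j ^ α j)
    rwa [hα] at this
  have hcc : ∀ a ≤ N, ∑ q ∈ Finset.antidiagonal a, c q.1 * c q.2 = 0 := by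
    intro a ha
    rw [hc, subst_mul]
    have : subst r (fun α => MvPowerSeries.coeff α (σ * σ)) a =
        subst r (fun α => MvPowerSeries.coeff α (linSeries f : MvPowerSeries (Fin m) (Module.End P F.T))) a := by
      refine Finset.sum_congr rfl fun α hα => ?_
      rw [mem_antidiag_univ] at hα
      dsimp only
      rw [heq α (hα ▸ ha)]
    rw [this, subst_linSeries, hrel, map_zero, ite_self]
  suffices ∀ k ≤ N, ∃ w : ℕ → F.T, w 0 = Finsupp.single F.o 1 ∧ ∀ i ≤ k, w i ∈ F.Gr (2 * (i : ℤ)) ∧
      ∑ q ∈ Finset.antidiagonal i, c q.1 (w q.2) = 0 by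
    obtain ⟨w, hw0, hw⟩ := this N le_rfl
    exact ⟨σ, w, hσ, hw0, hw⟩
  intro k hk
  induction k with
  | zero =>
    refine ⟨fun _ => Finsupp.single F.o 1, rfl, fun i hi => ?_⟩
    obtain rfl := Nat.le_zero.mp hi
    simp [F.single_o_mem, hc0, F.d_single_o]
  | succ k ih =>
    obtain ⟨w, hw0, hw⟩ := ih (by omega)
    let w₀ : ℕ → F.T := Function.update w (k + 1) 0
    let Ω : PowerSeries (Module.End P F.T) := PowerSeries.mk fun i => atO F.o (w₀ i)
    have hlow : ∀ i ≤ k, ∑ q ∈ Finset.antidiagonal i, c q.1 (w₀ q.2) = 0 := fun i hi => by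
      rw [← (hw i hi).2]
      refine Finset.sum_congr rfl fun q hq => ?_
      have := Finset.mem_antidiagonal.mp hq
      simp only [w₀]
      rw [Function.update_of_ne (by omega)]
    set u := ∑ q ∈ Finset.antidiagonal (k + 1), c q.1 (w₀ q.2) with hu
    have hum : u ∈ F.Gr (((2 * k : ℕ) : ℤ) + 1) := by
      refine Submodule.sum_mem _ fun q hq => ?_
      have hq' := Finset.mem_antidiagonal.mp hq
      simp only [w₀, Function.update_apply]
      split_ifs with h
      · rw [map_zero]; exact zero_mem _
      · have := (hcdeg q.1).apply (hw q.2 (by omega)).1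
        convert this using 2
        push_cast; omega
    have hdu : F.d u = 0 := by
      have e1 : PowerSeries.coeff (k + 1) (PowerSeries.mk c * (PowerSeries.mk c * Ω)) = 0 := by
        rw [← mul_assoc, PowerSeries.coeff_mul]
        refine Finset.sum_eq_zero fun q hq => ?_
        have hq' := Finset.mem_antidiagonal.mp hq
        rw [PowerSeries.coeff_mul]
        simp only [PowerSeries.coeff_mk]
        rw [hcc q.1 (by omega), zero_mul]
      have e2 := LinearMap.congr_fun e1 (Finsupp.single F.o 1)
      rw [coeff_mk_mul, LinearMap.sum_apply, Finset.sum_eq_single (0, k + 1)] at e2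
      · rw [hc0, Module.End.mul_apply, coeff_mk_mul, LinearMap.sum_apply, LinearMap.zero_apply] at e2
        simpa [Ω, atO_single, hu] using e2
      · intro q hq hne
        have hq' := Finset.mem_antidiagonal.mp hq
        have hq2 : q.2 ≤ k := by
          by_contra hcon
          exact hne (Prod.ext (by omega) (by omega))
        rw [Module.End.mul_apply, coeff_mk_mul, LinearMap.sum_apply]
        simp only [Ω, PowerSeries.coeff_mk, Module.End.mul_apply, atO_single]
        rw [hlow q.2 hq2, map_zero]
      · intro hn; exact absurd (by simp) hn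
    obtain ⟨y, hy, hy'⟩ := F.exact (2 * k) u hum hdu
    refine ⟨Function.update w (k + 1) (-y), ?_, fun i hi => ?_⟩
    · rw [Function.update_of_ne (by omega), hw0]
    · rcases hi.lt_or_eq with hlt | rfl
      · rw [Function.update_of_ne (by omega)]
        refine ⟨(hw i (by omega)).1, ?_⟩
        rw [← (hw i (by omega)).2]
        refine Finset.sum_congr rfl fun q hq => ?_
        have := Finset.mem_antidiagonal.mp hq
        rw [Function.update_of_ne (by omega)]
      · rw [Function.update_self]
        refine ⟨neg_mem ?_, ?_⟩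
        · convert hy using 2
          push_cast; omega
        · have : ∀ q ∈ Finset.antidiagonal (k + 1), c q.1 (Function.update w (k + 1) (-y) q.2) =
              c q.1 (w₀ q.2) + if q = (0, k + 1) then -u else 0 := by
            intro q hq
            have hq' := Finset.mem_antidiagonal.mp hq
            simp only [w₀]
            by_cases h : q.2 = k + 1
            · have : q = (0, k + 1) := Prod.ext (by omega) h
              subst this
              simp [hc0, hy']
            · rw [Function.update_of_ne h, Function.update_of_ne h,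
                if_neg (fun e => h (by rw [e])), add_zero]
          rw [Finset.sum_congr rfl this, Finset.sum_add_distrib, ← hu, Finset.sum_ite_eq',
            if_pos (by simp), add_neg_cancel]

/-- If high degree cycles modulo `𝔞` are boundaries modulo `𝔞`, then `g` is nilpotent modulo
`J ⊔ 𝔞`. -/
theorem exists_pow_mem (hp : Function.Surjective p) {φ : P'}
    (hker : RingHom.ker p = Ideal.span {φ})
    (h𝔞 : ∀ x, p x ∈ 𝔞 ↔ φ * x = 0)
    (f r : Fin m → P) (hf : ∀ j, f j ∈ J) (hrel : ∑ j, r j * f j = 0) (hr : ∀ j, r j ∈ 𝔞)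
    (f' r' : Fin m → P') (g : P') (hf' : ∀ j, p (f' j) = f j) (hr' : ∀ j, p (r' j) = r j)
    (hsum : ∑ j, r' j * f' j = φ * g)
    (hvan : ∃ d₀ : ℕ, ∀ k, d₀ ≤ k → ∀ z ∈ F.Gr (2 * (k : ℤ)),
      F.d z ∈ 𝔞 • (⊤ : Submodule P F.T) → ∃ u, z - F.d u ∈ 𝔞 • (⊤ : Submodule P F.T)) :
    ∃ k, p g ^ k ∈ J ⊔ 𝔞 := by
  classical
  obtain ⟨d₀, hvan⟩ := hvan
  refine ⟨d₀, ?_⟩
  obtain ⟨σ, w, ⟨h0, hdeg, heq⟩, hw0, hw⟩ := exists_cycle F f r hf hrel (d₀ + 1)
  have hφr : ∀ j, φ * r' j = 0 := fun j => (h𝔞 _).mp (by rw [hr']; exact hr j)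
  choose σ' hσ' using fun α => exists_over (p := p) hp (MvPowerSeries.coeff α σ)
  choose w' hw' using fun i => Finsupp.mapRange_surjective (α := F.ι) p p.map_zero hp (w i)
  let S' : MvPowerSeries (Fin m) (Module.End P' (F.ι →₀ P')) := σ'
  have hS' : ∀ α, MvPowerSeries.coeff α S' = σ' α := fun α => rfl
  set c' : ℕ → Module.End P' (F.ι →₀ P') := subst r' fun α => MvPowerSeries.coeff α S' with hc'
  set c : ℕ → Module.End P F.T := subst r fun α => MvPowerSeries.coeff α σ with hc
  have hprod : ∀ α : Fin m →₀ ℕ, p (∏ j, r' j ^ α j) = ∏ j, r j ^ α j := fun α => by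
    simp only [map_prod, map_pow, hr']
  have hcc : ∀ a, Over p (c' a) (c a) := fun a => by
    refine Over.sum _ _ _ fun α _ => ?_
    have := (hσ' α).smul (∏ j, r' j ^ α j)
    rw [hprod] at this
    exact this
  have hc'0 : c' 0 = σ' 0 := by rw [hc', subst_zero, hS']
  have hφc : ∀ a, a ≠ 0 → φ • c' a = 0 := fun a ha => by
    rw [hc', subst, Finset.smul_sum]
    refine Finset.sum_eq_zero fun α hα => ?_
    rw [mem_antidiag_univ] at hα
    rw [smul_smul, prod_pow_eq_zero hφr (by rintro rfl; simp at hα; exact ha hα.symm), zero_smul]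
  set d' := σ' 0 with hd'
  have hd : Over p d' F.d := by rw [← h0]; exact hσ' 0
  have hdd : Over p (d' * d') 0 := by rw [← F.sq]; exact hd.mul hd
  obtain ⟨t, ht⟩ := Over.exists_smul hker hdd Over.zero
  rw [zero_add] at ht
  -- `t` commutes with the differential modulo the annihilator of `φ`
  have hcomm : φ • (d' * t) = φ • (t * d') := by
    rw [← mul_smul_comm, ← smul_mul_assoc, ← ht, mul_assoc]
  -- square of the lifted twisting element
  have hsq : ∀ a ≤ d₀ + 1, ∑ q ∈ Finset.antidiagonal a, c' q.1 * c' q.2 =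
      φ • (if a = 0 then t else if a = 1 then algebraMap P' _ g else 0) := by
    intro a ha
    rcases Nat.eq_zero_or_pos a with rfl | hpos
    · simp [hc'0, ht]
    rw [if_neg hpos.ne', hc', subst_mul]
    have : subst r' (fun α => MvPowerSeries.coeff α (S' * S')) a =
        subst r' (fun α => MvPowerSeries.coeff α
          (linSeries f' : MvPowerSeries (Fin m) (Module.End P' (F.ι →₀ P')))) a := by
      refine Finset.sum_congr rfl fun α hα => ?_
      rw [mem_antidiag_univ] at hα
      have hover : Over p (MvPowerSeries.coeff α (S' * S'))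
          (MvPowerSeries.coeff α (σ * σ)) := by
        rw [MvPowerSeries.coeff_mul, MvPowerSeries.coeff_mul]
        exact Over.sum _ _ _ fun q _ => (hσ' q.1).mul (hσ' q.2)
      have hover' : Over p (MvPowerSeries.coeff α
          (linSeries f' : MvPowerSeries (Fin m) (Module.End P' (F.ι →₀ P'))))
          (MvPowerSeries.coeff α (σ * σ)) := by
        rw [heq α (hα ▸ ha), coeff_linSeries, coeff_linSeries]
        refine Over.sum _ _ _ fun j _ => ?_
        split_ifs
        · rw [← hf']; exact Over.algebraMap
        · exact Over.zero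
      obtain ⟨e, he⟩ := hover.exists_smul hker hover'
      dsimp only
      rw [he, smul_add, smul_smul, mul_comm, prod_pow_eq_zero hφr
        (by rintro rfl; simp at hα; omega), zero_smul, add_zero]
    rw [this, subst_linSeries, hsum]
    split_ifs with h1
    · rw [Algebra.algebraMap_eq_smul_one, Algebra.algebraMap_eq_smul_one, smul_smul]
    · rw [smul_zero]
  -- the lifted cycle fails to be a cycle by multiples of `φ`
  have hb : ∀ i, ∃ b, i ≤ d₀ + 1 → ∑ q ∈ Finset.antidiagonal i, c' q.1 (w' q.2) = φ • b := by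
    intro i
    by_cases hi : i ≤ d₀ + 1
    · have hz : Finsupp.mapRange p p.map_zero (∑ q ∈ Finset.antidiagonal i, c' q.1 (w' q.2)) = 0 := by
        rw [← (hw i hi).2]
        induction Finset.antidiagonal i using Finset.induction_on with
        | empty => simp
        | insert a s ha ih =>
          rw [Finset.sum_insert ha, Finset.sum_insert ha, mapRange_add', ih, hcc a.1, hw' a.2]
      obtain ⟨b, hb⟩ := exists_dvd hker _ hz
      exact ⟨b, fun _ => hb⟩
    · exact ⟨0, fun h => absurd h hi⟩
  choose b hb using hb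
  let SS : PowerSeries (Module.End P' (F.ι →₀ P')) := PowerSeries.mk c'
  let W : PowerSeries (Module.End P' (F.ι →₀ P')) := PowerSeries.mk fun i => atO F.o (w' i)
  have hstep : ∀ i, i + 1 ≤ d₀ + 1 →
      φ • (t (w' (i + 1)) + g • w' i) = φ • d' (b (i + 1)) := by
    intro i hi
    have e : PowerSeries.coeff (i + 1) (SS * (SS * W)) = PowerSeries.coeff (i + 1) (SS * SS * W) := by
      rw [mul_assoc]
    have e' := LinearMap.congr_fun e (Finsupp.single F.o 1)
    rw [coeff_mk_mul, PowerSeries.coeff_mul, LinearMap.sum_apply, LinearMap.sum_apply] at e'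
    have hR : ∀ q ∈ Finset.antidiagonal (i + 1),
        (PowerSeries.coeff q.1 (SS * SS) * PowerSeries.coeff q.2 W) (Finsupp.single F.o 1) =
          if q.1 = 0 then φ • t (w' (i + 1)) else if q.1 = 1 then φ • g • w' i else 0 := by
      intro q hq
      have hq' := Finset.mem_antidiagonal.mp hq
      rw [coeff_mk_mul]
      simp only [SS, PowerSeries.coeff_mk]
      rw [hsq q.1 (by omega)]
      simp only [W, PowerSeries.coeff_mk, Module.End.mul_apply, atO_single, LinearMap.smul_apply]
      split_ifs with h1 h2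
      · rw [show q.2 = i + 1 by omega]
      · rw [show q.2 = i by omega, Module.algebraMap_end_apply]
      · rw [LinearMap.zero_apply, smul_zero]
    have hL : ∀ q ∈ Finset.antidiagonal (i + 1),
        (c' q.1 * PowerSeries.coeff q.2 (SS * W)) (Finsupp.single F.o 1) =
          if q.1 = 0 then φ • d' (b (i + 1)) else 0 := by
      intro q hq
      have hq' := Finset.mem_antidiagonal.mp hq
      rw [Module.End.mul_apply, coeff_mk_mul, LinearMap.sum_apply]
      simp only [W, PowerSeries.coeff_mk, Module.End.mul_apply, atO_single]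
      rw [hb q.2 (by omega), map_smul]
      split_ifs with h
      · rw [h, hc'0, show q.2 = i + 1 by omega]
      · rw [← LinearMap.smul_apply, hφc _ h, LinearMap.zero_apply]
    rw [Finset.sum_congr rfl hL, Finset.sum_congr rfl hR, Finset.sum_eq_single (0, i + 1),
      Finset.sum_eq_add (0, i + 1) (1, i)] at e'
    · simp only [if_true, one_ne_zero, if_false] at e'
      rw [smul_add, ← e']
    · simp
    · intro q hq hne
      have hq' := Finset.mem_antidiagonal.mp hq
      rw [if_neg (fun h => hne.1 (Prod.ext h (by omega))),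
        if_neg (fun h => hne.2 (Prod.ext h (by omega)))]
    · intro hn; exact absurd (by simp) hn
    · intro hn; exact absurd (by simp [add_comm]) hn
    · intro q hq hne
      have hq' := Finset.mem_antidiagonal.mp hq
      rw [if_neg (fun h => hne (Prod.ext h (by omega)))]
    · intro hn; exact absurd (by simp) hn
  -- the base of the descending induction
  have hmemkill : ∀ v : F.T, v ∈ 𝔞 • (⊤ : Submodule P F.T) → ∀ v' : F.ι →₀ P',
      Finsupp.mapRange p p.map_zero v' = v → φ • v' = 0 := by
    intro v hv
    suffices ∀ i, v i ∈ 𝔞 by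
      intro v' hv'
      ext i
      rw [Finsupp.smul_apply, smul_eq_mul, Finsupp.zero_apply]
      exact (h𝔞 _).mp (by rw [← Finsupp.mapRange_apply (hf := p.map_zero) (g := v'), hv']; exact this i)
    intro i
    refine Submodule.smul_induction_on hv (fun a ha n _ => ?_) (fun x y hx hy => ?_)
    · rw [Finsupp.smul_apply, smul_eq_mul]; exact Ideal.mul_mem_right _ _ ha
    · rw [Finsupp.add_apply]; exact add_mem hx hy
  have hkills : F.d (w d₀) ∈ 𝔞 • (⊤ : Submodule P F.T) := by
    have h := (hw d₀ (Nat.le_succ _)).2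
    rw [Finset.Nat.sum_antidiagonal_eq_sum_range_succ_mk, Finset.sum_range_succ'] at h
    rw [show c 0 = F.d by rw [hc, subst_zero, h0], Nat.sub_zero] at h
    rw [eq_neg_of_add_eq_zero_right h]
    refine neg_mem (Submodule.sum_mem _ fun j _ => ?_)
    rw [hc, subst, LinearMap.sum_apply]
    refine Submodule.sum_mem _ fun α hα => ?_
    rw [mem_antidiag_univ] at hα
    rw [LinearMap.smul_apply]
    refine Submodule.smul_mem_smul ?_ Submodule.mem_top
    obtain ⟨l, hl⟩ := Finsupp.ne_iff.mp (show α ≠ 0 by rintro rfl; simp at hα)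
    rw [← Finset.mul_prod_erase _ _ (Finset.mem_univ l)]
    exact Ideal.mul_mem_right _ _ (Ideal.pow_mem_of_mem _ (hr l) _ (Nat.pos_of_ne_zero hl))
  obtain ⟨u, hu⟩ := hvan d₀ le_rfl (w d₀) (hw d₀ (Nat.le_succ _)).1 hkills
  obtain ⟨u', hu'⟩ := Finsupp.mapRange_surjective (α := F.ι) p p.map_zero hp u
  have hmain : ∀ j ≤ d₀, ∃ v, φ • g ^ j • w' (d₀ - j) = φ • d' v := by
    intro j
    induction j with
    | zero =>
      refine fun _ => ⟨u', ?_⟩
      rw [pow_zero, one_smul, Nat.sub_zero, ← sub_eq_zero, ← smul_sub]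
      refine hmemkill _ hu _ ?_
      rw [Finsupp.mapRange_sub (map_sub p), hd, hu', hw']
    | succ j ih =>
      intro hj
      obtain ⟨v, hv⟩ := ih (by omega)
      have h1 := congrArg t hv
      rw [map_smul, map_smul, map_smul] at h1
      have h2 : φ • t (d' v) = φ • d' (t v) := by
        have := LinearMap.congr_fun hcomm v
        simpa using this.symm
      have h3 := hstep (d₀ - (j + 1)) (by omega)
      rw [show d₀ - (j + 1) + 1 = d₀ - j by omega] at h3
      refine ⟨g ^ j • b (d₀ - j) - t v, ?_⟩
      have h4 : φ • g • w' (d₀ - (j + 1)) = φ • d' (b (d₀ - j)) - φ • t (w' (d₀ - j)) :=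
        eq_sub_of_add_eq' (by rw [← h3, smul_add])
      calc φ • g ^ (j + 1) • w' (d₀ - (j + 1)) = g ^ j • (φ • g • w' (d₀ - (j + 1))) := by
            simp only [smul_smul]; congr 1; ring
        _ = φ • g ^ j • d' (b (d₀ - j)) - φ • g ^ j • t (w' (d₀ - j)) := by
            rw [h4, smul_sub, smul_comm (g ^ j), smul_comm (g ^ j)]
        _ = φ • d' (g ^ j • b (d₀ - j) - t v) := by
            rw [map_sub, map_smul, smul_sub, h1, h2]
  obtain ⟨v, hv⟩ := hmain d₀ le_rfl
  rw [Nat.sub_self] at hv
  have hv' := DFunLike.congr_fun hv F.o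
  simp only [Finsupp.smul_apply, smul_eq_mul] at hv'
  have hw'o : p (w' 0 F.o) = 1 := by
    rw [← Finsupp.mapRange_apply (hf := p.map_zero) (g := w' 0), hw', hw0, Finsupp.single_eq_same]
  have hmem : p (g ^ d₀ * w' 0 F.o - d' v F.o) ∈ 𝔞 :=
    (h𝔞 _).mpr (by rw [mul_sub, hv', sub_self])
  rw [map_sub, map_mul, hw'o, mul_one, map_pow] at hmem
  have hJ : p (d' v F.o) ∈ J := by
    rw [← Finsupp.mapRange_apply (hf := p.map_zero) (g := d' v), hd]
    exact F.apply_o_mem_of_d _
  have := Submodule.add_mem_sup hJ hmem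
  rwa [add_sub_cancel] at this

end Main

end Groth.Agent.TorOperator
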