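import Groth.Agent.TorOperator.Graded
import Groth.Agent.DRingPC.TorDim
import Mathlib.RingTheory.Flat.EquationalCriterion
import Mathlib.RingTheory.Flat.Stability
import Mathlib.RingTheory.Ideal.Maps

/-!
Existence of free resolutions, and exactness modulo an ideal of the base in high degrees when the
tor dimension over the base is finite.
-/

namespace Groth.Agent.TorOperator

universe u

section Construction

variable {P : Type u} [CommRing P] (J : Ideal P)

/-- Generators and relations, degree by degree. -/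
noncomputable def stage : ℕ → Σ ι : Type u, Submodule P (ι →₀ P)
  | 0 => ⟨PUnit.{u + 1}, Submodule.comap (Finsupp.lapply PUnit.unit) J⟩
  | n + 1 => ⟨↥(stage n).2,
      LinearMap.ker (Finsupp.linearCombination P fun x : ↥(stage n).2 => (x : (stage n).1 →₀ P))⟩

/-- Basis in degree `n`. -/
noncomputable abbrev Idx (n : ℕ) : Type u := (stage J n).1

/-- Cycles in degree `n`. -/
noncomputable abbrev Zc (n : ℕ) : Submodule P (Idx J n →₀ P) := (stage J n).2

/-- The cycle named by a basis vector of degree `n + 1`. -/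
noncomputable def val (n : ℕ) : Idx J (n + 1) → (Idx J n →₀ P) :=
  fun x => Subtype.val (p := fun v => v ∈ Zc J n) x

theorem val_mem (n : ℕ) (x : Idx J (n + 1)) : val J n x ∈ Zc J n :=
  Subtype.property (p := fun v => v ∈ Zc J n) x

/-- The differential from degree `n + 1`. -/
noncomputable def δ (n : ℕ) : (Idx J (n + 1) →₀ P) →ₗ[P] (Idx J n →₀ P) :=
  Finsupp.linearCombination P (val J n)

theorem range_δ (n : ℕ) : LinearMap.range (δ J n) = Zc J n := by
  rw [δ, Finsupp.range_linearCombination]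
  refine le_antisymm (Submodule.span_le.mpr ?_) fun v hv => Submodule.subset_span ⟨⟨v, hv⟩, rfl⟩
  rintro _ ⟨x, rfl⟩
  exact val_mem J n x

theorem Zc_succ (n : ℕ) : Zc J (n + 1) = LinearMap.ker (δ J n) := rfl

/-- The basis vector in degree zero. -/
noncomputable def o₀ : Idx J 0 := PUnit.unit

theorem mem_Zc_zero (v : Idx J 0 →₀ P) : v ∈ Zc J 0 ↔ v (o₀ J) ∈ J := Iff.rfl

/-- Inclusion of degree `n`. -/
noncomputable def emb (n : ℕ) : (Idx J n →₀ P) →ₗ[P] ((Σ n, Idx J n) →₀ P) :=
  Finsupp.lmapDomain P P (Sigma.mk n)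

/-- Projection to degree `n`. -/
noncomputable def proj (n : ℕ) : ((Σ n, Idx J n) →₀ P) →ₗ[P] (Idx J n →₀ P) :=
  Finsupp.lcomapDomain (Sigma.mk n) sigma_mk_injective

theorem proj_emb (n : ℕ) (v : Idx J n →₀ P) : proj J n (emb J n v) = v :=
  Finsupp.leftInverse_lcomapDomain_mapDomain _ sigma_mk_injective v

/-- The total differential on basis vectors. -/
noncomputable def dBasis : (Σ n, Idx J n) → ((Σ n, Idx J n) →₀ P)
  | ⟨0, _⟩ => 0
  | ⟨n + 1, x⟩ => emb J n (val J n x)

/-- The total differential. -/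
noncomputable def dTot : Module.End P ((Σ n, Idx J n) →₀ P) :=
  Finsupp.linearCombination P (dBasis J)

theorem dTot_emb_zero (v : Idx J 0 →₀ P) : dTot J (emb J 0 v) = 0 := by
  induction v using Finsupp.induction_linear with
  | zero => simp
  | add a b ha hb => rw [map_add, map_add, ha, hb, add_zero]
  | single x a =>
    rw [emb, Finsupp.lmapDomain_apply, Finsupp.mapDomain_single, dTot,
      Finsupp.linearCombination_single]
    exact smul_zero a

theorem dTot_emb_succ (n : ℕ) (v : Idx J (n + 1) →₀ P) :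
    dTot J (emb J (n + 1) v) = emb J n (δ J n v) := by
  induction v using Finsupp.induction_linear with
  | zero => simp
  | add a b ha hb => rw [map_add, map_add, ha, hb, map_add, map_add]
  | single x a =>
    rw [emb, Finsupp.lmapDomain_apply, Finsupp.mapDomain_single, dTot,
      Finsupp.linearCombination_single, δ]
    rw [Finsupp.linearCombination_single, map_smul, dBasis]

theorem emb_mem (n : ℕ) (v : Idx J n →₀ P) :
    emb J n v ∈ Finsupp.supported P P {y : Σ n, Idx J n | (y.1 : ℤ) = n} := by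
  classical
  rw [Finsupp.mem_supported]
  intro y hy
  obtain ⟨x, -, rfl⟩ := Finset.mem_image.mp (Finsupp.mapDomain_support hy)
  rfl

theorem exists_emb_eq {n : ℕ} {z : (Σ n, Idx J n) →₀ P}
    (hz : z ∈ Finsupp.supported P P {y | (y.1 : ℤ) = n}) : ∃ v, emb J n v = z := by
  have : Finsupp.supported P P {y : Σ n, Idx J n | (y.1 : ℤ) = n} ≤ LinearMap.range (emb J n) := by
    rw [Finsupp.supported_eq_span_single, Submodule.span_le]
    rintro _ ⟨⟨k, x⟩, hx, rfl⟩
    obtain rfl : k = n := by exact_mod_cast hx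
    exact ⟨Finsupp.single x 1, by simp [emb]⟩
  exact this hz

/-- The standard free resolution of `P ⧸ J`. -/
noncomputable def stdRes : FreeRes P J where
  ι := Σ n, Idx J n
  deg := Sigma.fst
  o := ⟨0, o₀ J⟩
  deg_o := rfl
  eq_o := by rintro ⟨n, x⟩ h; obtain rfl : n = 0 := h; rfl
  d := dTot J
  d_deg := by
    rintro ⟨n, x⟩
    rw [show dTot J (Finsupp.single ⟨n, x⟩ 1) = dBasis J ⟨n, x⟩ by simp [dTot]]
    match n, x with
    | 0, _ => exact zero_mem _
    | n + 1, x =>
      rw [dBasis]
      convert emb_mem J n (val J n x) using 4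
      simp
  sq := by
    refine Finsupp.lhom_ext' fun ⟨n, x⟩ => LinearMap.ext_ring ?_
    simp only [LinearMap.comp_apply, Finsupp.lsingle_apply, LinearMap.zero_apply,
      Module.End.mul_apply]
    rw [show dTot J (Finsupp.single ⟨n, x⟩ 1) = dBasis J ⟨n, x⟩ by simp [dTot]]
    match n, x with
    | 0, _ => exact map_zero _
    | 1, x => exact dTot_emb_zero J _
    | n + 2, x =>
      show dTot J (emb J (n + 1) _) = 0
      rw [dTot_emb_succ, show δ J n (val J (n + 1) x) = 0 from val_mem J (n + 1) x, map_zero]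
  exact n z hz hdz := by
    have hz' : z ∈ Finsupp.supported P P {y : Σ n, Idx J n | (y.1 : ℤ) = ((n + 1 : ℕ) : ℤ)} := by
      simpa using hz
    obtain ⟨v, rfl⟩ := exists_emb_eq J hz'
    rw [dTot_emb_succ] at hdz
    have hv : v ∈ Zc J (n + 1) := by
      rw [Zc_succ, LinearMap.mem_ker, ← proj_emb J n (δ J n v), hdz, map_zero]
    rw [← range_δ] at hv
    obtain ⟨y, rfl⟩ := hv
    refine ⟨emb J (n + 2) y, ?_, dTot_emb_succ J (n + 1) y⟩
    simpa using emb_mem J (n + 2) y
  exact0 a := by
    constructor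
    · intro ha
      have hm : Finsupp.single (o₀ J) a ∈ Zc J 0 := by
        rw [mem_Zc_zero, Finsupp.single_eq_same]; exact ha
      rw [← range_δ] at hm
      obtain ⟨y, hy⟩ := hm
      refine ⟨emb J 1 y, by simpa using emb_mem J 1 y, ?_⟩
      rw [dTot_emb_succ, hy, emb, Finsupp.lmapDomain_apply, Finsupp.mapDomain_single]
    · rintro ⟨y, hy, hy'⟩
      have hy'' : y ∈ Finsupp.supported P P {y : Σ n, Idx J n | (y.1 : ℤ) = ((1 : ℕ) : ℤ)} := by
        simpa using hy
      obtain ⟨v, rfl⟩ := exists_emb_eq J hy''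
      rw [dTot_emb_succ] at hy'
      have hm : δ J 0 v ∈ Zc J 0 := range_δ J 0 ▸ LinearMap.mem_range_self _ v
      have h := congrArg (proj J 0) hy'
      rw [proj_emb] at h
      rw [h] at hm
      rw [mem_Zc_zero] at hm
      have hm' : (Finsupp.single (⟨0, o₀ J⟩ : Σ n, Idx J n) a) ⟨0, o₀ J⟩ ∈ J := hm
      rwa [Finsupp.single_eq_same] at hm'

end Construction

section Vanishing

/-- A relation in a submodule with flat image already holds in it. -/
theorem mem_smul_ker {R : Type u} [CommRing R] {M Q : Type u} [AddCommGroup M] [Module R M]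
    [AddCommGroup Q] [Module R Q] [Module.Flat R Q] (π : M →ₗ[R] Q) (hπ : Function.Surjective π)
    (I : Ideal R) {v : M} (hv : v ∈ I • (⊤ : Submodule R M)) (hv' : π v = 0) :
    v ∈ I • LinearMap.ker π := by
  classical
  obtain ⟨l, a, x, ha, rfl⟩ : ∃ (l : ℕ) (a : Fin l → R) (x : Fin l → M),
      (∀ i, a i ∈ I) ∧ v = ∑ i, a i • x i := by
    refine Submodule.smul_induction_on hv (fun r hr m _ => ⟨1, ![r], ![m], by simp [hr], by simp⟩) ?_
    rintro _ _ ⟨l, a, x, ha, rfl⟩ ⟨l', a', x', ha', rfl⟩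
    refine ⟨l + l', Fin.append a a', Fin.append x x', fun i => ?_, ?_⟩
    · refine Fin.addCases (fun i => ?_) (fun i => ?_) i
      · rw [Fin.append_left]; exact ha i
      · rw [Fin.append_right]; exact ha' i
    · rw [Fin.sum_univ_add]
      simp
  have hrel : ∑ i, a i • π (x i) = 0 := by
    rw [← hv', map_sum]
    simp only [map_smul]
  have htr : Module.IsTrivialRelation a (fun i => π (x i)) :=
    Module.Flat.isTrivialRelation_of_sum_smul_eq_zero hrel
  obtain ⟨k, b, y, hy, hb⟩ := htr
  choose Y hY using fun j => hπ (y j)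
  have hsplit : ∑ i, a i • x i = ∑ i, a i • (x i - ∑ j, b i j • Y j) := by
    simp only [smul_sub, Finset.smul_sum, smul_smul, Finset.sum_sub_distrib]
    have h0 : ∑ i, ∑ j, (a i * b i j) • Y j = 0 := by
      rw [Finset.sum_comm]
      exact Finset.sum_eq_zero fun j _ => by rw [← Finset.sum_smul, hb, zero_smul]
    rw [h0, sub_zero]
  rw [hsplit]
  refine Submodule.sum_mem _ fun i _ => Submodule.smul_mem_smul (ha i) ?_
  rw [LinearMap.mem_ker, map_sub, show π (x i) = ∑ j, b i j • y j from hy i, map_sum, sub_eq_zero]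
  exact Finset.sum_congr rfl fun j _ => by rw [map_smul, hY]

variable {R P : Type u} [CommRing R] [CommRing P] [Algebra R P] (J : Ideal P)

theorem exists_flat_Zc [Module.Flat R P] (hfd : DRing.HasFiniteTorDim R (P ⧸ J)) :
    ∃ d₀, ∀ n, d₀ ≤ n → Module.Flat R ↥(Zc J n) := by
  obtain ⟨d, hd⟩ := hfd
  have hP : Module.Flat R P := inferInstance
  have hF : ∀ n, Module.Flat R (Idx J n →₀ P) := fun n => Module.Flat.trans R P _
  rw [DRingPC.td_iff] at hd
  let e0 : ↥(Zc J 0) ≃ₗ[R] ↥J :=
    { toFun := fun v => ⟨v.1 (o₀ J), v.2⟩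
      map_add' := fun v w => rfl
      map_smul' := fun c v => rfl
      invFun := fun a => ⟨Finsupp.single (o₀ J) a.1, by
        rw [mem_Zc_zero, Finsupp.single_eq_same]; exact a.2⟩
      left_inv := fun v => Subtype.ext (Finsupp.ext fun i => by
        obtain rfl : i = o₀ J := rfl
        exact Finsupp.single_eq_same)
      right_inv := fun a => Subtype.ext Finsupp.single_eq_same }
  let i₀ : ↥(Zc J 0) →ₗ[R] P := (J.restrictScalars R).subtype.comp e0.toLinearMap
  let q₀ : P →ₗ[R] P ⧸ J := (Ideal.Quotient.mkₐ R J).toLinearMap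
  let S0 : CategoryTheory.ShortComplex (ModuleCat.{u} R) :=
    CategoryTheory.ShortComplex.mk (ModuleCat.ofHom (X := ↥(Zc J 0)) (Y := P) i₀) (ModuleCat.ofHom q₀) (by
      have h : q₀.comp i₀ = 0 :=
        LinearMap.ext fun v => (Ideal.Quotient.eq_zero_iff_mem (I := J)).mpr (e0 v).2
      exact ModuleCat.hom_ext h)
  have hS0 : S0.ShortExact := by
    have hex : Function.Exact i₀ q₀ := fun x => by
      show Ideal.Quotient.mk J x = 0 ↔ _
      rw [Ideal.Quotient.eq_zero_iff_mem]
      exact ⟨fun h => ⟨e0.symm ⟨x, h⟩, congrArg Subtype.val (e0.apply_symm_apply ⟨x, h⟩)⟩, fun ⟨v, hv⟩ => hv ▸ (e0 v).2⟩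
    exact { exact := (CategoryTheory.ShortComplex.ShortExact.moduleCat_exact_iff_function_exact _).2 hex
            mono_f := (ModuleCat.mono_iff_injective _).2 fun v w h =>
              e0.injective (Subtype.ext h)
            epi_g := (ModuleCat.epi_iff_surjective _).2 Ideal.Quotient.mk_surjective }
  have key : ∀ n e, d ≤ n + e + 1 → DRingPC.TD e (ModuleCat.of R ↥(Zc J n)) := by
    intro n
    induction n with
    | zero =>
      intro e he
      exact (DRingPC.td_shift hS0 hP e).1 (DRingPC.td_mono (by omega) hd)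
    | succ n ih =>
      intro e he
      let i₁ : ↥(Zc J (n + 1)) →ₗ[R] (Idx J (n + 1) →₀ P) := (Zc J (n + 1)).subtype.restrictScalars R
      let q₁ : (Idx J (n + 1) →₀ P) →ₗ[R] ↥(Zc J n) :=
        ((δ J n).codRestrict (Zc J n) fun v => range_δ J n ▸ LinearMap.mem_range_self _ v).restrictScalars R
      let S1 : CategoryTheory.ShortComplex (ModuleCat.{u} R) :=
        CategoryTheory.ShortComplex.mk (ModuleCat.ofHom (X := ↥(Zc J (n + 1))) (Y := Idx J (n + 1) →₀ P) i₁)
          (ModuleCat.ofHom (X := Idx J (n + 1) →₀ P) (Y := ↥(Zc J n)) q₁) (by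
          have h : q₁.comp i₁ = 0 := LinearMap.ext fun v => Subtype.ext (show δ J n v.1 = 0 from v.2)
          exact ModuleCat.hom_ext h)
      have hS1 : S1.ShortExact := by
        have hex : Function.Exact i₁ q₁ := fun x =>
          ⟨fun h => ⟨⟨x, show δ J n x = 0 from congrArg Subtype.val h⟩, rfl⟩,
            fun ⟨v, hv⟩ => hv ▸ Subtype.ext (show δ J n v.1 = 0 from v.2)⟩
        exact { exact := (CategoryTheory.ShortComplex.ShortExact.moduleCat_exact_iff_function_exact _).2 hex
                mono_f := (ModuleCat.mono_iff_injective _).2 Subtype.val_injective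
                epi_g := (ModuleCat.epi_iff_surjective _).2 fun z => by
                  obtain ⟨v, hv⟩ := (range_δ J n).ge z.2
                  exact ⟨v, Subtype.ext hv⟩ }
      exact (DRingPC.td_shift hS1 (hF (n + 1)) e).1 (ih (e + 1) (by omega))
  exact ⟨d, fun n hn => DRingPC.flat_of_td_zero (key n 0 (by omega))⟩

/-- Above the tor dimension, cycles modulo an ideal of the base are boundaries modulo it. -/
theorem exists_vanish [Module.Flat R P] (hfd : DRing.HasFiniteTorDim R (P ⧸ J)) (I : Ideal R) :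
    ∃ d₀ : ℕ, ∀ k, d₀ ≤ k → ∀ z ∈ (stdRes J).Gr (2 * (k : ℤ)),
      (stdRes J).d z ∈ I.map (algebraMap R P) • (⊤ : Submodule P (stdRes J).T) →
      ∃ u, z - (stdRes J).d u ∈ I.map (algebraMap R P) • (⊤ : Submodule P (stdRes J).T) := by
  obtain ⟨d, hd⟩ := exists_flat_Zc J hfd
  refine ⟨d + 1, fun k hk z hz hdz => ?_⟩
  obtain ⟨n, hn⟩ : ∃ n, 2 * k = n + 2 := ⟨2 * k - 2, by omega⟩
  have hz' : z ∈ Finsupp.supported P P {y : Σ n, Idx J n | (y.1 : ℤ) = ((n + 2 : ℕ) : ℤ)} := by
    have hz₁ : z ∈ Finsupp.supported P P {y : Σ n, Idx J n | (y.1 : ℤ) = 2 * (k : ℤ)} := hz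
    rw [← hn]
    push_cast
    exact hz₁
  obtain ⟨v, rfl⟩ := exists_emb_eq J hz'
  have hflat := hd n (by omega)
  have hmem : δ J (n + 1) v ∈ I.map (algebraMap R P) • (⊤ : Submodule P (Idx J (n + 1) →₀ P)) := by
    rw [← proj_emb J (n + 1) (δ J (n + 1) v), ← dTot_emb_succ]
    exact (Submodule.map_smul'' _ _ (proj J (n + 1))).le.trans (Submodule.smul_mono le_rfl le_top)
      (Submodule.mem_map_of_mem hdz)
  rw [← Submodule.restrictScalars_mem R, Submodule.restrictScalars_map_smul_eq,
    Submodule.restrictScalars_top] at hmem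
  let q₁ : (Idx J (n + 1) →₀ P) →ₗ[R] ↥(Zc J n) :=
    ((δ J n).codRestrict (Zc J n) fun v => range_δ J n ▸ LinearMap.mem_range_self _ v).restrictScalars R
  have hcyc : q₁ (δ J (n + 1) v) = 0 := Subtype.ext
    (show δ J (n + 1) v ∈ LinearMap.ker (δ J n) by
      rw [← Zc_succ, ← range_δ]; exact LinearMap.mem_range_self _ v)
  have hsurj : Function.Surjective q₁ := fun z => by
    obtain ⟨w, hw⟩ := (range_δ J n).ge z.2
    exact ⟨w, Subtype.ext hw⟩
  have hker := mem_smul_ker (M := Idx J (n + 1) →₀ P) (Q := ↥(Zc J n)) q₁ hsurj I hmem hcyc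
  have hle : I • LinearMap.ker q₁ ≤
      (I • (⊤ : Submodule R (Idx J (n + 2) →₀ P))).map ((δ J (n + 1)).restrictScalars R) := by
    rw [Submodule.map_smul'', Submodule.map_top]
    refine Submodule.smul_mono le_rfl fun x hx => ?_
    have : x ∈ LinearMap.range (δ J (n + 1)) := by
      rw [range_δ, Zc_succ]
      exact (congrArg Subtype.val hx : δ J n x = 0)
    exact this
  obtain ⟨i, hi, hi'⟩ := hle hker
  have hsub : v - i ∈ LinearMap.range (δ J (n + 2)) := by
    rw [range_δ, Zc_succ, LinearMap.mem_ker, map_sub, sub_eq_zero]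
    exact hi'.symm
  obtain ⟨u, hu⟩ := hsub
  refine ⟨emb J (n + 3) u, ?_⟩
  have hi2 : i ∈ I.map (algebraMap R P) • (⊤ : Submodule P (Idx J (n + 2) →₀ P)) := by
    rw [← Submodule.restrictScalars_mem R, Submodule.restrictScalars_map_smul_eq,
      Submodule.restrictScalars_top]
    exact hi
  have heq : emb J (n + 2) v - dTot J (emb J (n + 3) u) = emb J (n + 2) i := by
    rw [dTot_emb_succ J (n + 2) u, hu, ← map_sub, sub_sub_cancel]
  show emb J (n + 2) v - dTot J (emb J (n + 3) u) ∈
    I.map (algebraMap R P) • (⊤ : Submodule P ((Σ n, Idx J n) →₀ P))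
  rw [heq]
  exact (Submodule.map_smul'' _ _ (emb J (n + 2))).le.trans (Submodule.smul_mono le_rfl le_top)
    (Submodule.mem_map_of_mem hi2)

end Vanishing

end Groth.Agent.TorOperator
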