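import Mathlib.LinearAlgebra.Finsupp.LinearCombination
import Mathlib.LinearAlgebra.Finsupp.Supported
import Mathlib.RingTheory.Ideal.Basic
import Mathlib.Algebra.Module.LinearMap.End

/-!
Free resolutions of cyclic modules as graded free modules with a differential, and null homotopies.
-/

namespace Groth.Agent.TorOperator

universe u

/-- A free resolution of `P ⧸ J`, totalised: a free module with graded basis and a differential. -/
structure FreeRes (P : Type u) [CommRing P] (J : Ideal P) where
  ι : Type u
  deg : ι → ℕ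
  o : ι
  deg_o : deg o = 0
  eq_o : ∀ x, deg x = 0 → x = o
  d : Module.End P (ι →₀ P)
  d_deg : ∀ x, d (Finsupp.single x 1) ∈ Finsupp.supported P P {y | (deg y : ℤ) = (deg x : ℤ) - 1}
  sq : d * d = 0
  exact : ∀ n : ℕ, ∀ z ∈ Finsupp.supported P P {y | (deg y : ℤ) = (n : ℤ) + 1}, d z = 0 →
    ∃ y ∈ Finsupp.supported P P {y | (deg y : ℤ) = (n : ℤ) + 2}, d y = z
  exact0 : ∀ a : P, a ∈ J ↔
    ∃ y ∈ Finsupp.supported P P {y | (deg y : ℤ) = 1}, d y = Finsupp.single o a

namespace FreeRes

variable {P : Type u} [CommRing P] {J : Ideal P} (F : FreeRes P J)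

/-- The underlying module. -/
abbrev T : Type u := F.ι →₀ P

/-- The homogeneous part of degree `n`. -/
abbrev Gr (n : ℤ) : Submodule P F.T := Finsupp.supported P P {y | (F.deg y : ℤ) = n}

/-- An endomorphism of degree `k`. -/
def IsHom (k : ℤ) (E : Module.End P F.T) : Prop :=
  ∀ x, E (Finsupp.single x 1) ∈ F.Gr ((F.deg x : ℤ) + k)

theorem map_mem_of_forall {n : ℤ} (S : Submodule P F.T) (E : F.T →ₗ[P] F.T)
    (h : ∀ x, (F.deg x : ℤ) = n → E (Finsupp.single x 1) ∈ S) {v : F.T} (hv : v ∈ F.Gr n) :
    E v ∈ S := by
  have : F.Gr n ≤ S.comap E := by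
    rw [Gr, Finsupp.supported_eq_span_single, Submodule.span_le]
    rintro _ ⟨x, hx, rfl⟩
    exact h x hx
  exact this hv

theorem eqOn_Gr {n : ℤ} (E E' : F.T →ₗ[P] F.T)
    (h : ∀ x, (F.deg x : ℤ) = n → E (Finsupp.single x 1) = E' (Finsupp.single x 1))
    {v : F.T} (hv : v ∈ F.Gr n) : E v = E' v := by
  have := F.map_mem_of_forall ⊥ (E - E') (fun x hx => by simp [h x hx]) hv
  simpa [sub_eq_zero] using this

variable {F}

theorem IsHom.apply {k : ℤ} {E : Module.End P F.T} (h : F.IsHom k E) {n : ℤ} {v : F.T}
    (hv : v ∈ F.Gr n) : E v ∈ F.Gr (n + k) :=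
  F.map_mem_of_forall _ E (fun x hx => hx ▸ h x) hv

theorem IsHom.comp {k l : ℤ} {E E' : Module.End P F.T} (h : F.IsHom k E) (h' : F.IsHom l E')
    {j : ℤ} (hj : k + l = j) : F.IsHom j (E * E') := fun x => by
  have := h.apply (h' x)
  rwa [add_assoc, add_comm l k, hj] at this

theorem IsHom.add {k : ℤ} {E E' : Module.End P F.T} (h : F.IsHom k E) (h' : F.IsHom k E') :
    F.IsHom k (E + E') := fun x => add_mem (h x) (h' x)

theorem IsHom.sub {k : ℤ} {E E' : Module.End P F.T} (h : F.IsHom k E) (h' : F.IsHom k E') :
    F.IsHom k (E - E') := fun x => sub_mem (h x) (h' x)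

theorem IsHom.smul {k : ℤ} {E : Module.End P F.T} (h : F.IsHom k E) (c : P) :
    F.IsHom k (c • E) := fun x => Submodule.smul_mem _ c (h x)

variable (F)

theorem isHom_zero (k : ℤ) : F.IsHom k 0 := fun x => by simp

theorem isHom_sum {α : Type*} (s : Finset α) {k : ℤ} (E : α → Module.End P F.T)
    (h : ∀ a ∈ s, F.IsHom k (E a)) : F.IsHom k (∑ a ∈ s, E a) := by
  classical
  induction s using Finset.induction_on with
  | empty => simpa using F.isHom_zero k
  | insert a s ha ih =>
    rw [Finset.sum_insert ha]
    exact (h a (Finset.mem_insert_self a s)).add (ih fun b hb => h b (Finset.mem_insert_of_mem hb))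

theorem isHom_d : F.IsHom (-1) F.d := fun x => by
  rw [← sub_eq_add_neg]; exact F.d_deg x

theorem isHom_one : F.IsHom 0 1 := fun x => by
  rw [add_zero, Module.End.one_apply, Gr, Finsupp.mem_supported]
  intro y hy
  have := Finsupp.support_single_subset hy
  simp_all

theorem single_o_mem : Finsupp.single F.o (1 : P) ∈ F.Gr 0 := by
  have := F.isHom_one F.o
  simpa [F.deg_o] using this

theorem d_single_o : F.d (Finsupp.single F.o 1) = 0 := by
  have h := F.d_deg F.o
  rw [F.deg_o] at h
  have he : {y | (F.deg y : ℤ) = ((0 : ℕ) : ℤ) - 1} = (∅ : Set F.ι) := by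
    ext y; simp only [Set.mem_ofPred_eq, Set.mem_empty_iff_false, iff_false]; omega
  rw [he, Finsupp.supported_empty] at h
  exact (Submodule.mem_bot P).mp h

theorem d_d (v : F.T) : F.d (F.d v) = 0 := by
  rw [← Module.End.mul_apply, F.sq, LinearMap.zero_apply]

/-- A chain map of nonnegative degree (killing `P ⧸ J` if the degree is zero) is null homotopic. -/
theorem exists_homotopy {k : ℕ} {E : Module.End P F.T} (hE : F.IsHom k E)
    (hc : F.d * E = E * F.d)
    (h0 : k = 0 → ∃ y ∈ F.Gr 1, F.d y = E (Finsupp.single F.o 1)) :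
    ∃ X, F.IsHom ((k : ℤ) + 1) X ∧ F.d * X + X * F.d = E := by
  classical
  let Xb : ℕ → F.ι → F.T := fun n => Nat.rec
    (fun x => Classical.epsilon fun y => y ∈ F.Gr ((k : ℤ) + 1) ∧ F.d y = E (Finsupp.single x 1))
    (fun n prev x => Classical.epsilon fun y => y ∈ F.Gr ((n : ℤ) + 1 + (k + 1)) ∧
      F.d y = E (Finsupp.single x 1) - Finsupp.linearCombination P prev (F.d (Finsupp.single x 1))) n
  let X : Module.End P F.T := Finsupp.linearCombination P fun x => Xb (F.deg x) x
  have hXx : ∀ x, X (Finsupp.single x 1) = Xb (F.deg x) x := fun x => by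
    simp [X, Finsupp.linearCombination_single]
  have key : ∀ n x, F.deg x = n → X (Finsupp.single x 1) ∈ F.Gr ((n : ℤ) + (k + 1)) ∧
      (F.d * X + X * F.d) (Finsupp.single x 1) = E (Finsupp.single x 1) := by
    intro n
    induction n with
    | zero =>
      intro x hx
      obtain rfl := F.eq_o x hx
      have hex : ∃ y, y ∈ F.Gr ((k : ℤ) + 1) ∧ F.d y = E (Finsupp.single F.o 1) := by
        rcases Nat.eq_zero_or_pos k with rfl | hk
        · simpa using h0 rfl
        · have hmem : E (Finsupp.single F.o 1) ∈ F.Gr (((k - 1 : ℕ) : ℤ) + 1) := by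
            have := hE F.o
            rw [F.deg_o] at this
            convert this using 2; omega
          have hd : F.d (E (Finsupp.single F.o 1)) = 0 := by
            rw [← Module.End.mul_apply, hc, Module.End.mul_apply, F.d_single_o, map_zero]
          obtain ⟨y, hy, hy'⟩ := F.exact _ _ hmem hd
          refine ⟨y, ?_, hy'⟩
          convert hy using 2; omega
      have he := Classical.epsilon_spec hex
      rw [hXx, F.deg_o]
      refine ⟨by simpa [Xb] using he.1, ?_⟩
      rw [LinearMap.add_apply, Module.End.mul_apply, Module.End.mul_apply, F.d_single_o, map_zero,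
        add_zero, hXx, F.deg_o]
      exact he.2
    | succ n ih =>
      intro x hx
      set v := F.d (Finsupp.single x 1) with hv
      have hvm : v ∈ F.Gr n := by
        have := F.d_deg x
        rw [hx] at this
        convert this using 2; omega
      have hXv : Finsupp.linearCombination P (Xb n) v = X v := by
        refine F.eqOn_Gr _ X (fun y hy => ?_) hvm
        rw [hXx, Finsupp.linearCombination_single, one_smul, show F.deg y = n by omega]
      have hXm : X v ∈ F.Gr ((n : ℤ) + (k + 1)) :=
        F.map_mem_of_forall _ X (fun y hy => (ih y (by omega)).1) hvm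
      have hEv : (F.d * X + X * F.d) v = E v :=
        F.eqOn_Gr _ E (fun y hy => (ih y (by omega)).2) hvm
      rw [LinearMap.add_apply, Module.End.mul_apply, Module.End.mul_apply, hv, F.d_d, map_zero,
        add_zero] at hEv
      have hm : E (Finsupp.single x 1) - X v ∈ F.Gr (((n + k : ℕ) : ℤ) + 1) := by
        refine sub_mem ?_ ?_
        · have := hE x
          rw [hx] at this
          convert this using 2; omega
        · convert hXm using 2; omega
      have hd : F.d (E (Finsupp.single x 1) - X v) = 0 := by
        rw [map_sub, hv, hEv, ← Module.End.mul_apply, hc, Module.End.mul_apply, sub_self]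
      obtain ⟨y₀, hy₀, hy₀'⟩ := F.exact _ _ hm hd
      have hex : ∃ y, y ∈ F.Gr ((n : ℤ) + 1 + (k + 1)) ∧
          F.d y = E (Finsupp.single x 1) - Finsupp.linearCombination P (Xb n) v := by
        refine ⟨y₀, ?_, by rw [hXv]; exact hy₀'⟩
        convert hy₀ using 2; omega
      have he := Classical.epsilon_spec hex
      rw [hXx, hx]
      refine ⟨?_, ?_⟩
      · convert he.1 using 2
        omega
      · rw [LinearMap.add_apply, Module.End.mul_apply, Module.End.mul_apply, hXx, hx]
        have h2 : F.d (Xb (n + 1) x) = E (Finsupp.single x 1) - X v :=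
          he.2.trans (congrArg (E (Finsupp.single x 1) - ·) hXv)
        rw [h2, ← hv]
        exact sub_add_cancel _ _
  refine ⟨X, fun x => (key _ x rfl).1, ?_⟩
  refine Finsupp.lhom_ext' fun x => LinearMap.ext_ring ?_
  exact (key _ x rfl).2

/-- The degree zero component of a boundary lies in `J`. -/
theorem apply_o_mem_of_d (v : F.T) : F.d v F.o ∈ J := by
  classical
  induction v using Finsupp.induction_linear with
  | zero => simp
  | add a b ha hb => rw [map_add, Finsupp.add_apply]; exact J.add_mem ha hb
  | single x c =>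
    rw [← mul_one c, ← Finsupp.smul_single', map_smul, Finsupp.smul_apply]
    refine J.mul_mem_left c ?_
    by_cases h : F.deg x = 1
    · refine (F.exact0 _).mpr ⟨Finsupp.single x 1, ?_, ?_⟩
      · rw [Finsupp.mem_supported]
        intro y hy
        rw [Finset.mem_coe] at hy
        rw [Finset.mem_singleton.mp (Finsupp.support_single_subset hy)]
        simp [h]
      · ext y
        by_cases hy : y = F.o
        · rw [hy, Finsupp.single_eq_same]
        · rw [Finsupp.single_eq_of_ne hy]
          by_contra hne
          have := F.d_deg x (Finsupp.mem_support_iff.mpr hne)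
          simp only [Set.mem_ofPred_eq, h] at this
          exact hy (F.eq_o y (by omega))
    · by_cases hz : F.d (Finsupp.single x 1) F.o = 0
      · rw [hz]; exact J.zero_mem
      · have := F.d_deg x (Finsupp.mem_support_iff.mpr hz)
        simp only [Set.mem_ofPred_eq, F.deg_o] at this
        omega

end FreeRes

end Groth.Agent.TorOperator
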