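import Groth.Agent.TorOperator.Graded
import Mathlib.RingTheory.MvPowerSeries.Basic
import Mathlib.RingTheory.PowerSeries.Basic
import Mathlib.Algebra.Order.Antidiag.Finsupp
import Mathlib.Data.Finsupp.Weight

/-!
Systems of higher homotopies, and their specialisation along a vector of scalars.
-/

namespace Groth.Agent.TorOperator

universe u

section Subst

variable {K A : Type*} [CommRing K] [Semiring A] [Algebra K A] {m : ℕ}

/-- `∑_{|α| = a} r^α x_α`. -/
noncomputable def subst (r : Fin m → K) (x : (Fin m →₀ ℕ) → A) (a : ℕ) : A :=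
  ∑ α ∈ Finset.univ.finsuppAntidiag a, (∏ j, r j ^ α j) • x α

theorem mem_antidiag_univ {α : Fin m →₀ ℕ} {a : ℕ} :
    α ∈ (Finset.univ.finsuppAntidiag a : Finset (Fin m →₀ ℕ)) ↔ α.degree = a := by
  simp [Finsupp.degree_eq_sum]

theorem prod_pow_eq_zero {r : Fin m → K} {c : K} (hc : ∀ j, c * r j = 0) {α : Fin m →₀ ℕ}
    (hα : α ≠ 0) : c * ∏ j, r j ^ α j = 0 := by
  classical
  obtain ⟨j, hj⟩ := Finsupp.ne_iff.mp hα
  rw [← Finset.mul_prod_erase _ _ (Finset.mem_univ j), ← mul_assoc]
  obtain ⟨k, hk⟩ := Nat.exists_eq_succ_of_ne_zero (show α j ≠ 0 from hj)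
  rw [hk, pow_succ', ← mul_assoc, hc, zero_mul, zero_mul]

theorem subst_zero (r : Fin m → K) (x : (Fin m →₀ ℕ) → A) : subst r x 0 = x 0 := by
  have : (Finset.univ.finsuppAntidiag 0 : Finset (Fin m →₀ ℕ)) = {0} := by
    ext α; simp only [mem_antidiag_univ, Finsupp.degree_eq_zero_iff, Finset.mem_singleton]
  simp [subst, this]

theorem subst_mul (r : Fin m → K) (x y : MvPowerSeries (Fin m) A) (a : ℕ) :
    ∑ p ∈ Finset.antidiagonal a,
        subst r (fun α => MvPowerSeries.coeff α x) p.1 * subst r (fun α => MvPowerSeries.coeff α y) p.2 =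
      subst r (fun α => MvPowerSeries.coeff α (x * y)) a := by
  classical
  simp only [subst, MvPowerSeries.coeff_mul, Finset.sum_mul_sum, Finset.smul_sum]
  rw [← Finset.sum_congr rfl fun p _ => (Finset.sum_product' (s := Finset.univ.finsuppAntidiag p.1)
    (t := Finset.univ.finsuppAntidiag p.2) (f := fun β γ =>
      ((∏ j, r j ^ β j) • MvPowerSeries.coeff β x) * ((∏ j, r j ^ γ j) • MvPowerSeries.coeff γ y))),
    Finset.sum_sigma', Finset.sum_sigma']
  refine Finset.sum_nbij' (fun i => ⟨i.2.1 + i.2.2, i.2⟩)
    (fun i => ⟨(i.2.1.degree, i.2.2.degree), i.2⟩) ?_ ?_ ?_ ?_ ?_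
  · rintro ⟨⟨b, c⟩, β, γ⟩ h
    simp only [Finset.mem_sigma, Finset.mem_antidiagonal, Finset.mem_product,
      mem_antidiag_univ] at h ⊢
    refine ⟨?_, trivial⟩
    rw [map_add, h.2.1, h.2.2, h.1]
  · rintro ⟨α, β, γ⟩ h
    simp only [Finset.mem_sigma, Finset.mem_antidiagonal, Finset.mem_product,
      mem_antidiag_univ] at h ⊢
    refine ⟨?_, trivial, trivial⟩
    rw [← map_add, h.2, h.1]
  · rintro ⟨⟨b, c⟩, β, γ⟩ h
    simp only [Finset.mem_sigma, Finset.mem_antidiagonal, Finset.mem_product,
      mem_antidiag_univ] at h ⊢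
    rw [h.2.1, h.2.2]
  · rintro ⟨α, β, γ⟩ h
    simp only [Finset.mem_sigma, Finset.mem_antidiagonal] at h ⊢
    rw [h.2]
  · rintro ⟨⟨b, c⟩, β, γ⟩ h
    rw [smul_mul_assoc, mul_smul_comm, smul_smul]
    congr 1
    rw [← Finset.prod_mul_distrib]
    exact Finset.prod_congr rfl fun j _ => by rw [Finsupp.add_apply, pow_add]

/-- The power series `∑_a (∑_{|α| = a} r^α x_α) s^a`. -/
noncomputable def substSeries (r : Fin m → K) (x : MvPowerSeries (Fin m) A) : PowerSeries A :=
  PowerSeries.mk (subst r fun α => MvPowerSeries.coeff α x)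

theorem coeff_substSeries_mul (r : Fin m → K) (x y : MvPowerSeries (Fin m) A) (a : ℕ) :
    PowerSeries.coeff a (substSeries r x * substSeries r y) =
      subst r (fun α => MvPowerSeries.coeff α (x * y)) a := by
  rw [PowerSeries.coeff_mul]
  simp only [substSeries, PowerSeries.coeff_mk]
  exact subst_mul r x y a

/-- The series `∑_j f_j y_j`. -/
noncomputable def linSeries (f : Fin m → K) : MvPowerSeries (Fin m) A :=
  ∑ j, MvPowerSeries.C (algebraMap K A (f j)) * MvPowerSeries.X j

theorem coeff_linSeries (f : Fin m → K) (α : Fin m →₀ ℕ) :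
    MvPowerSeries.coeff α (linSeries f : MvPowerSeries (Fin m) A) =
      ∑ j, if α = Finsupp.single j 1 then algebraMap K A (f j) else 0 := by
  classical
  rw [linSeries, map_sum]
  refine Finset.sum_congr rfl fun j _ => ?_
  rw [MvPowerSeries.coeff_C_mul, MvPowerSeries.coeff_X, mul_ite, mul_one, mul_zero]

theorem subst_linSeries (r f : Fin m → K) (a : ℕ) :
    subst r (fun α => MvPowerSeries.coeff α (linSeries f : MvPowerSeries (Fin m) A)) a =
      if a = 1 then algebraMap K A (∑ j, r j * f j) else 0 := by
  classical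
  simp only [subst, coeff_linSeries, Finset.smul_sum]
  rw [Finset.sum_comm]
  simp only [smul_ite, smul_zero, Finset.sum_ite_eq', mem_antidiag_univ, Finsupp.degree_single]
  by_cases ha : a = 1
  · subst ha
    simp only [if_true, map_sum]
    refine Finset.sum_congr rfl fun j _ => ?_
    rw [Algebra.smul_def, ← map_mul]
    congr 2
    rw [← Finset.mul_prod_erase _ _ (Finset.mem_univ j), Finsupp.single_eq_same, pow_one,
      Finset.prod_eq_one (fun i hi => by
        rw [Finsupp.single_eq_of_ne (Finset.ne_of_mem_erase hi), pow_zero]), mul_one]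
  · rw [if_neg ha]
    exact Finset.sum_eq_zero fun j _ => if_neg (Ne.symm ha)

theorem commute_linSeries (f : Fin m → K) (x : MvPowerSeries (Fin m) A) :
    Commute x (linSeries f) := by
  refine Commute.sum_right _ _ _ fun j _ => Commute.mul_right ?_ (MvPowerSeries.commute_X x j)
  refine MvPowerSeries.ext fun α => ?_
  rw [MvPowerSeries.coeff_mul_C, MvPowerSeries.coeff_C_mul]
  exact ((Algebra.commutes (f j) _).symm)

end Subst

section Higher

variable {P : Type u} [CommRing P] {J : Ideal P} (F : FreeRes P J) {m : ℕ}

/-- A system of higher homotopies up to total degree `N`. -/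
def IsSystem (f : Fin m → P) (N : ℕ) (σ : MvPowerSeries (Fin m) (Module.End P F.T)) : Prop :=
  MvPowerSeries.coeff 0 σ = F.d ∧
    (∀ α, F.IsHom (2 * (α.degree : ℤ) - 1) (MvPowerSeries.coeff α σ)) ∧
    ∀ α, α.degree ≤ N → MvPowerSeries.coeff α (σ * σ) = MvPowerSeries.coeff α (linSeries f)

theorem commute_sq_sub {R : Type*} [Ring R] (x y : R) (h : x * y = y * x) :
    x * (x * x - y) = (x * x - y) * x := by
  rw [mul_sub, sub_mul, h, mul_assoc]

theorem expand_sq {R : Type*} [Ring R] (x y z : R) :
    (x - y) * (x - y) = (x * x - z) - (x * y + y * x) + y * y + z := by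
  rw [sub_mul, mul_sub, mul_sub]
  abel

theorem degree_add_of_mem {α : Fin m →₀ ℕ} {p : (Fin m →₀ ℕ) × (Fin m →₀ ℕ)}
    (hp : p ∈ Finset.antidiagonal α) : p.1.degree + p.2.degree = α.degree := by
  rw [← map_add, Finset.mem_antidiagonal.mp hp]

theorem exists_system (f : Fin m → P) (hf : ∀ j, f j ∈ J) :
    ∀ N, ∃ σ, IsSystem F f N σ := by
  classical
  intro N
  induction N with
  | zero =>
    let σ : MvPowerSeries (Fin m) (Module.End P F.T) := MvPowerSeries.C F.d
    refine ⟨σ, ?_, fun α => ?_, fun α hα => ?_⟩
    · simp [σ, MvPowerSeries.coeff_C]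
    · rw [MvPowerSeries.coeff_C]
      split_ifs with h
      · subst h; simpa using F.isHom_d
      · exact F.isHom_zero _
    · obtain rfl : α = 0 := (Finsupp.degree_eq_zero_iff α).mp (Nat.le_zero.mp hα)
      simp only [σ, ← map_mul, F.sq, map_zero, coeff_linSeries]
      exact (Finset.sum_eq_zero fun j _ => if_neg (fun h => by
        have := congrArg Finsupp.degree h
        simp [Finsupp.degree_single] at this)).symm
  | succ N ih =>
    obtain ⟨σ, h0, hdeg, heq⟩ := ih
    let E : MvPowerSeries (Fin m) (Module.End P F.T) := σ * σ - linSeries f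
    have hElow : ∀ α : Fin m →₀ ℕ, α.degree ≤ N → MvPowerSeries.coeff α E = 0 := fun α h => by
      simp [E, heq α h]
    have hcomm : σ * E = E * σ := by
      exact commute_sq_sub σ (linSeries f) (commute_linSeries (A := Module.End P F.T) f σ).eq
    have hchain : ∀ α : Fin m →₀ ℕ, α.degree = N + 1 →
        F.d * MvPowerSeries.coeff α E = MvPowerSeries.coeff α E * F.d := by
      intro α hα
      have h := congrArg (MvPowerSeries.coeff α) hcomm
      rw [MvPowerSeries.coeff_mul, MvPowerSeries.coeff_mul,
        Finset.sum_eq_single (0, α), Finset.sum_eq_single (α, 0), h0] at h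
      · exact h
      · intro p hp hne
        have := degree_add_of_mem hp
        rw [hElow, zero_mul]
        by_contra hcon
        refine hne (Prod.ext ?_ ?_)
        · have h2 : p.2.degree = 0 := by omega
          have := Finset.mem_antidiagonal.mp hp
          rwa [(Finsupp.degree_eq_zero_iff _).mp h2, add_zero] at this
        · exact (Finsupp.degree_eq_zero_iff _).mp (by omega)
      · intro hn; exact absurd (by simp) hn
      · intro p hp hne
        have := degree_add_of_mem hp
        rw [hElow p.2, mul_zero]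
        by_contra hcon
        refine hne (Prod.ext ?_ ?_)
        · exact (Finsupp.degree_eq_zero_iff _).mp (by omega)
        · have h2 : p.1.degree = 0 := by omega
          have := Finset.mem_antidiagonal.mp hp
          rwa [(Finsupp.degree_eq_zero_iff _).mp h2, zero_add] at this
      · intro hn; exact absurd (by simp) hn
    have hhom : ∀ α : Fin m →₀ ℕ, α.degree = N + 1 →
        F.IsHom ((2 * N : ℕ) : ℤ) (MvPowerSeries.coeff α E) := by
      intro α hα
      rw [map_sub, MvPowerSeries.coeff_mul, coeff_linSeries]
      refine (F.isHom_sum _ _ fun p hp => ?_).sub (F.isHom_sum _ _ fun j _ => ?_)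
      · have := degree_add_of_mem hp
        exact (hdeg p.1).comp (hdeg p.2) (by push_cast; omega)
      · split_ifs with h
        · rw [h, Finsupp.degree_single] at hα
          rw [Algebra.algebraMap_eq_smul_one, show N = 0 by omega]
          exact F.isHom_one.smul _
        · exact F.isHom_zero _
    have hbase : ∀ α : Fin m →₀ ℕ, α.degree = N + 1 → 2 * N = 0 →
        ∃ y ∈ F.Gr 1, F.d y = MvPowerSeries.coeff α E (Finsupp.single F.o 1) := by
      intro α hα hN
      have hN' : N = 0 := by omega
      let S : Submodule P F.T := (F.Gr 1).map F.d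
      suffices MvPowerSeries.coeff α E (Finsupp.single F.o 1) ∈ S by
        obtain ⟨y, hy, hy'⟩ := this
        exact ⟨y, hy, hy'⟩
      simp only [E, map_sub, MvPowerSeries.coeff_mul, coeff_linSeries, LinearMap.sub_apply,
        LinearMap.sum_apply]
      refine sub_mem (Submodule.sum_mem _ fun p hp => ?_) (Submodule.sum_mem _ fun j _ => ?_)
      · have hd := degree_add_of_mem hp
        rw [Module.End.mul_apply]
        by_cases h1 : p.1 = 0
        · rw [h1, h0]
          refine Submodule.mem_map_of_mem ?_
          have h2 : p.2.degree = 1 := by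
            rw [h1, map_zero, zero_add] at hd; omega
          have := hdeg p.2 F.o
          rw [F.deg_o, h2] at this
          simpa using this
        · have h2 : p.2 = 0 := by
            have : p.1.degree ≠ 0 := fun h => h1 ((Finsupp.degree_eq_zero_iff _).mp h)
            exact (Finsupp.degree_eq_zero_iff _).mp (by omega)
          rw [h2, h0, F.d_single_o, map_zero]
          exact S.zero_mem
      · split_ifs with h
        · obtain ⟨y, hy, hy'⟩ := (F.exact0 (f j)).mp (hf j)
          refine ⟨y, hy, ?_⟩
          rw [hy', Module.algebraMap_end_apply, Finsupp.smul_single', mul_one]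
        · exact S.zero_mem
    choose X hX hX' using fun α : {α : Fin m →₀ ℕ // α.degree = N + 1} =>
      F.exists_homotopy (hhom α.1 α.2) (hchain α.1 α.2) (hbase α.1 α.2)
    let Δ : MvPowerSeries (Fin m) (Module.End P F.T) := fun α =>
      if h : α.degree = N + 1 then X ⟨α, h⟩ else 0
    have hΔ : ∀ α, MvPowerSeries.coeff α Δ = if h : α.degree = N + 1 then X ⟨α, h⟩ else 0 :=
      fun α => rfl
    refine ⟨σ - Δ, ?_, fun α => ?_, fun α hα => ?_⟩
    · rw [map_sub, hΔ, dif_neg (by simp)]
      exact (sub_zero (MvPowerSeries.coeff 0 σ)).trans h0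
    · rw [map_sub]
      refine (hdeg α).sub ?_
      rw [hΔ]
      split_ifs with h
      · have := hX ⟨α, h⟩
        rw [h]
        convert this using 1
        push_cast; ring
      · exact F.isHom_zero _
    · have hΔΔ : MvPowerSeries.coeff α (Δ * Δ) = 0 := by
        rw [MvPowerSeries.coeff_mul]
        refine Finset.sum_eq_zero fun p hp => ?_
        have := degree_add_of_mem hp
        by_cases h : p.1.degree = N + 1
        · rw [hΔ p.2, dif_neg (by omega), mul_zero]
        · rw [hΔ p.1, dif_neg h, zero_mul]
      have hl : MvPowerSeries.coeff α (σ * Δ) =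
          if h : α.degree = N + 1 then F.d * X ⟨α, h⟩ else 0 := by
        rw [MvPowerSeries.coeff_mul, Finset.sum_eq_single (0, α)]
        · rw [h0, hΔ]; split_ifs <;> simp
        · intro p hp hne
          have := degree_add_of_mem hp
          rw [hΔ p.2, dif_neg, mul_zero]
          intro h
          refine hne ?_
          have h1 : p.1 = 0 := (Finsupp.degree_eq_zero_iff _).mp (by omega)
          have h2 := Finset.mem_antidiagonal.mp hp
          rw [h1, zero_add] at h2
          exact Prod.ext h1 h2
        · intro hn; exact absurd (by simp) hn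
      have hr : MvPowerSeries.coeff α (Δ * σ) =
          if h : α.degree = N + 1 then X ⟨α, h⟩ * F.d else 0 := by
        rw [MvPowerSeries.coeff_mul, Finset.sum_eq_single (α, 0)]
        · rw [h0, hΔ]; split_ifs <;> simp
        · intro p hp hne
          have := degree_add_of_mem hp
          rw [hΔ p.1, dif_neg, zero_mul]
          intro h
          refine hne ?_
          have h1 : p.2 = 0 := (Finsupp.degree_eq_zero_iff _).mp (by omega)
          have h2 := Finset.mem_antidiagonal.mp hp
          rw [h1, add_zero] at h2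
          exact Prod.ext h2 h1
        · intro hn; exact absurd (by simp) hn
      have expand : MvPowerSeries.coeff α ((σ - Δ) * (σ - Δ)) - MvPowerSeries.coeff α (linSeries f) =
          MvPowerSeries.coeff α E - (MvPowerSeries.coeff α (σ * Δ) + MvPowerSeries.coeff α (Δ * σ)) +
            MvPowerSeries.coeff α (Δ * Δ) := by
        rw [show (σ - Δ) * (σ - Δ) = E - (σ * Δ + Δ * σ) + Δ * Δ + linSeries f from
          expand_sq σ Δ (linSeries f)]
        simp only [map_add, map_sub]
        exact add_sub_cancel_right (G := Module.End P F.T) _ _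
      refine (sub_eq_zero (G := Module.End P F.T)).mp ?_
      rw [expand, hΔΔ, add_zero, hl, hr]
      split_ifs with h
      · rw [hX' ⟨α, h⟩]
        exact sub_self (MvPowerSeries.coeff α E)
      · rw [hElow α (by omega), add_zero]
        exact sub_zero (0 : Module.End P F.T)

end Higher

end Groth.Agent.TorOperator
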